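import Groth.Prelude.Def_CohB1
import Groth.Agent.S3554
import Groth.Agent.S4406
import Groth.Prelude.Def_Twist2

/-!
# `P^n_R` as the base change of `P^n_ℤ`, with the twisting sheaves
-/

set_option autoImplicit false
set_option backward.isDefEq.respectTransparency false
set_option backward.isDefEq.respectTransparency.types false

universe u

open CategoryTheory CategoryTheory.Limits AlgebraicGeometry

noncomputable section

namespace Groth.Agent.PnSpec

theorem exists_iso_twist (n : ℕ) (R : Type u) [CommRing R] :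
    ∃ e : CohB1.ProjSpace n R ≅ CohB1.ProjSpaceOver n (Spec (CommRingCat.of R)),
      e.hom ≫ CohB1.ProjSpaceOver.toBase n (Spec (CommRingCat.of R)) = CohB1.ProjSpace.toSpec n R ∧
        ∀ d : ℤ, Nonempty ((Scheme.Modules.pullback e.hom).obj (Twist.twistOver n (Spec (CommRingCat.of R)) d) ≅
          Twist.twistProjSpace n R d) := by
  let Z := ULift.{u} ℤ
  letI : Algebra Z R := ((Int.castRingHom R).comp ULift.ringEquiv.toRingHom).toAlgebra
  let φ : CohB1.polyGrading n Z →+*ᵍ CohB1.polyGrading n R :=
    { MvPolynomial.map (algebraMap Z R) with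
      map_mem := fun {i} x hx => MvPolynomial.IsHomogeneous.map hx _ }
  letI : Algebra (MvPolynomial (Fin (n + 1)) Z) (MvPolynomial (Fin (n + 1)) R) :=
    MvPolynomial.algebraMvPolynomial
  have hφ : HomogeneousIdeal.irrelevant (CohB1.polyGrading n R) ≤
      (HomogeneousIdeal.irrelevant (CohB1.polyGrading n Z)).map φ := by
    rw [HomogeneousIdeal.irrelevant_le]
    intro i hi p hp
    rw [p.as_sum]
    refine sum_mem fun d hd => ?_
    have hd0 : d ≠ 0 := by
      rintro rfl
      have := hp (MvPolynomial.mem_support_iff.1 hd)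
      simp at this
      omega
    obtain ⟨j, hj⟩ : ∃ j, d j ≠ 0 := by
      by_contra! h
      exact hd0 (Finsupp.ext h)
    rw [show MvPolynomial.monomial d (MvPolynomial.coeff d p) =
        MvPolynomial.monomial (d - Finsupp.single j 1) (MvPolynomial.coeff d p) *
          φ (MvPolynomial.X j) by
      show _ = _ * MvPolynomial.map (algebraMap Z R) (MvPolynomial.X j)
      rw [MvPolynomial.map_X, MvPolynomial.X, MvPolynomial.monomial_mul, mul_one, tsub_add_cancel_of_le]
      exact Finsupp.single_le_iff.2 (Nat.one_le_iff_ne_zero.2 hj)]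
    exact Ideal.mul_mem_left _ _ (Ideal.mem_map_of_mem _
      (HomogeneousIdeal.mem_irrelevant_of_mem _ one_pos (MvPolynomial.isHomogeneous_X Z j)))
  have h := Groth.Agent.S3554.result (R := R) (R' := Z) (CohB1.polyGrading n Z) (CohB1.polyGrading n R) φ
    (fun b => rfl) hφ
  have h' : IsPullback (Proj.map φ hφ) (CohB1.ProjSpace.toSpec n R) (CohB1.ProjSpace.toSpec n Z)
      (specULiftZIsTerminal.from (Spec (CommRingCat.of R))) := by
    rw [specULiftZIsTerminal.hom_ext (specULiftZIsTerminal.from _) (Spec.map (CommRingCat.ofHom (algebraMap Z R)))]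
    exact h
  refine ⟨h'.isoPullback, h'.isoPullback_hom_snd, fun d => ?_⟩
  obtain ⟨i⟩ := Groth.Agent.S4406.result (R := R) (R' := Z) (CohB1.polyGrading n Z) (CohB1.polyGrading n R) φ
    (fun b => rfl) hφ d
  exact ⟨(Scheme.Modules.pullbackComp h'.isoPullback.hom _).app _ ≪≫
    (Scheme.Modules.pullbackCongr h'.isoPullback_hom_fst).app _ ≪≫ i⟩

end Groth.Agent.PnSpec
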